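import Mathlib

/-! Sections of the structure sheaf of a pushout of schemes in ringed spaces. -/

set_option autoImplicit false
set_option backward.isDefEq.respectTransparency false
set_option linter.style.haveILetI false

universe u

open CategoryTheory CategoryTheory.Limits AlgebraicGeometry TopologicalSpace Opposite

noncomputable section

namespace Groth.Agent.PushoutSecLib

/-- The two-point space with one open point. -/
abbrev sierp : TopCat.{u} := TopCat.of (ULift.{u} Prop)

def ptT : Opens (sierp.{u}) :=
  ⟨ULift.down ⁻¹' {q | q}, (continuous_Prop.1 continuous_id).preimage continuous_uliftDown⟩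

/-- Indices of the free generator: present away from the closed point. -/
structure Gen (V : Opens (sierp.{u})) : Type u where
  down : (ULift.up False : ULift.{u} Prop) ∉ V

def genMap {V W : Opens (sierp.{u})} (h : W ≤ V) (p : Gen V) : Gen W := ⟨fun hf => p.down (h hf)⟩

abbrev Free (σ : Type u) : Type u := MvPolynomial σ (ULift.{u} ℤ)

/-- The test space: maps into it are open subsets with a section. -/
def testSpace : PresheafedSpace.{u, u+1, u} CommRingCat.{u} where
  carrier := sierp
  presheaf :=
    { obj := fun V => CommRingCat.of (Free (Gen V.unop))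
      map := fun i => CommRingCat.ofHom (MvPolynomial.rename (genMap i.unop.le)).toRingHom
      map_id := fun V => CommRingCat.hom_ext (MvPolynomial.ringHom_ext (fun r => by simp) (fun p => by
        simp
        rfl))
      map_comp := fun i j => CommRingCat.hom_ext (MvPolynomial.ringHom_ext (fun r => by simp) (fun p => by
        simp
        rfl)) }

variable {P Q : PresheafedSpace.{u, u+1, u} CommRingCat.{u}}

def baseMap (U : Opens P.carrier) : P.carrier ⟶ sierp.{u} :=
  TopCat.ofHom ⟨fun x => ULift.up (x ∈ U), continuous_uliftUp.comp (continuous_Prop.2 U.2)⟩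

theorem baseMap_le (U : Opens P.carrier) {V : Opens (sierp.{u})} (p : Gen V) :
    (Opens.map (baseMap U)).obj V ≤ U := by
  intro x hx
  by_contra h
  have h2 : (ULift.up (x ∈ U) : ULift.{u} Prop) = ULift.up False := congrArg ULift.up (eq_false h)
  exact p.down (h2 ▸ hx)

/-- The map given by a section. -/
def mk (U : Opens P.carrier) (r : P.presheaf.obj (op U)) : P ⟶ testSpace.{u} where
  base := baseMap U
  c :=
    { app := fun V => CommRingCat.ofHom (MvPolynomial.eval₂Hom ((Int.castRingHom _).comp ULift.ringEquiv.toRingHom)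
        fun p => P.presheaf.map (homOfLE (baseMap_le U p)).op r)
      naturality := fun V W i => CommRingCat.hom_ext (MvPolynomial.ringHom_ext (fun r => by
          simp [testSpace]) (fun p => by
          simp [testSpace]
          rw [← ConcreteCategory.comp_apply, ← P.presheaf.map_comp]
          rfl)) }

def genT : Gen (ptT.{u}) := ⟨fun h => h⟩

/-- The section of a map. -/
def val (m : P ⟶ testSpace.{u}) : P.presheaf.obj (op ((Opens.map m.base).obj ptT)) :=
  m.c.app (op ptT) (MvPolynomial.X genT)

theorem preimage_mk (U : Opens P.carrier) (r : P.presheaf.obj (op U)) :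
    (Opens.map (mk U r).base).obj ptT = U := rfl

theorem val_mk (U : Opens P.carrier) (r : P.presheaf.obj (op U)) : val (mk U r) = r := by
  show MvPolynomial.eval₂Hom _ _ (MvPolynomial.X genT.{u}) = r
  rw [MvPolynomial.eval₂Hom_X']
  exact congr($(P.presheaf.map_id (op U)) r)

theorem mk_inj (U : Opens P.carrier) {r r' : P.presheaf.obj (op U)} (h : mk U r = mk U r') : r = r' := by
  have e := congr($(PresheafedSpace.congr_app h (op ptT)) (MvPolynomial.X genT.{u}))
  rw [ConcreteCategory.comp_apply] at e
  have h1 : (mk U r).c.app (op ptT) (MvPolynomial.X genT.{u}) = r := val_mk U r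
  have h2 : (mk U r').c.app (op ptT) (MvPolynomial.X genT.{u}) = r' := val_mk U r'
  rw [h1, h2] at e
  refine e.trans ?_
  exact congr($(P.presheaf.map_id (op U)) r')

theorem mk_congr {U U' : Opens P.carrier} (h : U = U') (r : P.presheaf.obj (op U)) (r' : P.presheaf.obj (op U'))
    (hr : P.presheaf.map (homOfLE h.ge).op r = r') : mk U r = mk U' r' := by
  subst h
  have : r = r' := (congr($(P.presheaf.map_id (op U)) r)).symm.trans hr
  rw [this]

theorem comp_mk (g : Q ⟶ P) (U : Opens P.carrier) (r : P.presheaf.obj (op U)) :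
    g ≫ mk U r = mk ((Opens.map g.base).obj U) (g.c.app (op U) r) := by
  refine PresheafedSpace.ext _ _ rfl (NatTrans.ext (funext fun V => CommRingCat.hom_ext
    (MvPolynomial.ringHom_ext (fun r => by simp [mk]) fun p => ?_)))
  simp [mk]
  exact congr($(g.c.naturality (homOfLE (baseMap_le U p)).op) r)

theorem eq_mk (m : P ⟶ testSpace.{u}) : m = mk ((Opens.map m.base).obj ptT) (val m) := by
  have hb : m.base = baseMap ((Opens.map m.base).obj ptT) :=
    TopCat.ext fun x => ULift.ext _ _ (propext Iff.rfl)
  refine PresheafedSpace.ext _ _ hb (NatTrans.ext (funext fun V => CommRingCat.hom_ext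
    (MvPolynomial.ringHom_ext (fun r => ?_) fun p => ?_)))
  · simp [mk]
    exact RingHom.congr_fun (RingHom.ext_int ((m.c.app V).hom.comp ((MvPolynomial.C).comp ULift.ringEquiv.symm.toRingHom))
      (Int.castRingHom _)) r.down
  have hV : V.unop ≤ ptT := by
    rintro ⟨q⟩ hq
    by_contra h
    have : q = False := eq_false h
    subst this
    exact p.down hq
  simp [mk]
  have e : (MvPolynomial.X p : Free (Gen V.unop)) = testSpace.presheaf.map (homOfLE hV).op (MvPolynomial.X genT.{u}) := by
    simp [testSpace]
    rfl
  rw [e]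
  erw [congr($(m.c.naturality (homOfLE hV).op) (MvPolynomial.X genT.{u}))]
  rw [ConcreteCategory.comp_apply]
  rfl

variable {A B Z T : PresheafedSpace.{u, u+1, u} CommRingCat.{u}} {i : Z ⟶ A} {j : Z ⟶ B} {a : A ⟶ T} {b : B ⟶ T}
  (hP : IsPushout i j a b)

include hP

theorem sec_injective (U : Opens T.carrier) {r r' : T.presheaf.obj (op U)}
    (ha : a.c.app (op U) r = a.c.app (op U) r') (hb : b.c.app (op U) r = b.c.app (op U) r') : r = r' :=
  by
  refine mk_inj (P := T) U (hP.hom_ext ?_ ?_)
  · rw [comp_mk, comp_mk, ha]
  · rw [comp_mk, comp_mk, hb]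

theorem sec_exists (U : Opens T.carrier) (x : A.presheaf.obj (op ((Opens.map a.base).obj U)))
    (y : B.presheaf.obj (op ((Opens.map b.base).obj U)))
    (h : (Opens.map i.base).obj ((Opens.map a.base).obj U) = (Opens.map j.base).obj ((Opens.map b.base).obj U))
    (hxy : Z.presheaf.map (homOfLE h.ge).op (i.c.app _ x) = j.c.app _ y) :
    ∃ r, a.c.app (op U) r = x ∧ b.c.app (op U) r = y := by
  have hc : i ≫ mk _ x = j ≫ mk _ y := by
    rw [comp_mk, comp_mk]
    exact mk_congr h _ _ hxy
  let m := hP.desc (mk _ x) (mk _ y) hc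
  have hz : mk ((Opens.map m.base).obj ptT) (0 : T.presheaf.obj _) = mk U 0 := by
    refine hP.hom_ext ?_ ?_
    · rw [comp_mk, comp_mk]
      refine mk_congr ?_ _ _ ((congrArg _ (map_zero _)).trans ((map_zero _).trans (map_zero _).symm))
      show (Opens.map (a ≫ m).base).obj ptT = _
      rw [hP.inl_desc]
      rfl
    · rw [comp_mk, comp_mk]
      refine mk_congr ?_ _ _ ((congrArg _ (map_zero _)).trans ((map_zero _).trans (map_zero _).symm))
      show (Opens.map (b ≫ m).base).obj ptT = _
      rw [hP.inr_desc]
      rfl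
  have hU : (Opens.map m.base).obj ptT = U :=
    congrArg (fun k : T ⟶ testSpace.{u} => (Opens.map k.base).obj ptT) hz
  let r := T.presheaf.map (homOfLE hU.ge).op (val m)
  have hm : m = mk U r := (eq_mk m).trans (mk_congr hU _ _ rfl)
  refine ⟨r, mk_inj _ ?_, mk_inj _ ?_⟩
  · rw [← comp_mk, ← hm, hP.inl_desc]
  · rw [← comp_mk, ← hm, hP.inr_desc]

end Groth.Agent.PushoutSecLib
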